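import Groth.Agent.Lib.OX.CompactBdd
import Groth.Agent.Lib.OX.RpushCoprod
import Groth.Agent.Lib.CptBdd19.Vanish
import Groth.Agent.Lib.GVanish.Main
import Groth.Agent.Lib.Cohom.Compare
import Mathlib.Topology.NoetherianSpace

/-! # `Rf_*` commutes with all direct sums for Noetherian schemes of finite dimension -/

set_option autoImplicit false
set_option maxHeartbeats 400000
set_option linter.style.haveILetI false
universe u

open CategoryTheory CategoryTheory.Limits AlgebraicGeometry Opposite TopologicalSpace Pretriangulated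
open GrothLib.TriCat (FinHom homSum_of homSum_π)

attribute [local instance] HasDerivedCategory.standard
attribute [local instance] Classical.decEq

namespace GrothLib.ProjDim22

open GrothLib.OX

variable {X S : Scheme.{u}}

/-- Grothendieck vanishing for `Ext` out of a generator. -/
theorem subsingleton_ext_genF [IsNoetherian X] (d : ℕ) (hd : topologicalKrullDim X ≤ d) (U : X.Opens)
    (F : X.Modules) (p : ℕ) (hp : d < p) : Subsingleton (Abelian.Ext.{u} ((genF X).obj U) F p) := by
  haveI : NoetherianSpace X := inferInstance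
  haveI : NoetherianSpace (U : Scheme.{u}).toTopCat := Topology.IsInducing.noetherianSpace (α := X) U.ι.isOpenEmbedding.isInducing
  haveI : Subsingleton (Coh.HH (U : Scheme.{u}) (F.restrict U.ι) p) :=
    GVanish.subsingleton_H_of_krullDim_le (X := (U : Scheme.{u}).toTopCat) d
      (U.ι.isOpenEmbedding.isInducing.topologicalKrullDim_le.trans hd) _ p hp
  obtain ⟨a⟩ := nonempty_extGenIso (X := X) U p
  obtain ⟨b⟩ := Cohom.nonempty_HHon_equiv F U p
  let e1 := (a.app F).addCommGroupIsoToAddEquiv
  let e2 : _ ≃+ Abelian.Ext.{u} (Cohom.freeFun.obj U) (Coh.toAb F) p :=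
    SheafCoh.HUext ((SheafOfModules.toSheaf X.ringCatSheaf).obj F) p U
  haveI : Subsingleton (Coh.HHon X F U p) := ‹Subsingleton (Coh.HH (U : Scheme.{u}) (F.restrict U.ι) p)›
  haveI := b.symm.toEquiv.subsingleton
  exact (e1.trans e2).toEquiv.subsingleton

/-- Generators see all direct sums. -/
theorem genFin_of_dim {ι : Type u} [IsNoetherian X] (K : ι → DCoh.D X) [HasCoproduct K] (d : ℕ)
    (hd : topologicalKrullDim X ≤ d) (U : X.Opens) : GenFin K U := fun j => by
  have := HoCat.derivedCategory_hasColimitsOfShape (C := X.Modules) (J := ι)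
  let M : ι → DCoh.D X := fun i => (K i)⟦j⟧
  have hUc : IsCompact (U : Set X) := NoetherianSpace.isCompact _
  have hU : IsQuasiSeparated (U : Set X) := fun s t _ _ _ _ _ _ => NoetherianSpace.isCompact _
  have h0 : FinHom M ((DerivedCategory.singleFunctor X.Modules 0).obj ((genF X).obj U)) :=
    CptBdd19.finHom_of_dimension d (fun F p hp => subsingleton_ext_genF d hd U F p hp)
      (fun p H => preservesColimit_ext_genF hUc hU p H) M
  have hiso : IsIso (Sigma.desc fun i => (shiftFunctor (DCoh.D X) j).map (Sigma.ι K i)) :=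
    inferInstanceAs (IsIso (sigmaComparison (shiftFunctor (DCoh.D X) j) K))
  exact FinHom.of_iso (singleShiftNeg ((genF X).obj U) j)
    (finHom_leftAdjoint (shiftEquiv (DCoh.D X) j).symm.toAdjunction K hiso
      (inferInstanceAs (shiftFunctor (DCoh.D X) (-j)).Additive) h0)

variable (f : X ⟶ S) [QuasiCompact f] [QuasiSeparated f] {ι : Type u} (K : ι → DCoh.D X) [HasCoproduct K]
  [HasCoproduct fun i => (RR f).obj (K i)]

/-- The direct sum of the `Rf_* K_i` maps isomorphically to `Rf_* (∐ K_i)`. -/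
theorem isIso_Rres_coprod_of_dim [IsNoetherian X] [IsNoetherian S] (dX dS : ℕ)
    (hX : topologicalKrullDim X ≤ dX) (hS : topologicalKrullDim S ≤ dS) :
    IsIso (Sigma.desc fun i => (RR f).map (Sigma.ι K i)) := by
  let R := RR f
  let RK := fun i => R.obj (K i)
  let a : (∐ RK) ⟶ R.obj (∐ K) := Sigma.desc fun i => R.map (Sigma.ι K i)
  refine (DerivedCategory.isIso_iff (C := S.Modules) a).2 fun j => ?_
  refine isIso_of_restrict_cover _ (fun V : S.affineOpens => V.1) (fun x => ?_) fun V =>
    isIso_restrict_homology a V.2 j fun s => ?_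
  · obtain ⟨U, hU, hx, -⟩ := exists_isAffineOpen_mem_and_subset (x := x) (U := ⊤) trivial
    exact ⟨⟨U, hU⟩, hx⟩
  let W := S.basicOpen s
  let gW := (DerivedCategory.singleFunctor S.Modules j).obj ((genF S).obj W)
  let gT := (DerivedCategory.singleFunctor X.Modules j).obj ((genF X).obj (f ⁻¹ᵁ W))
  let e : ∀ E : DCoh.D X, (gW ⟶ R.obj E) ≃ (gT ⟶ E) := fun E => SiteDer.pushHomEquiv (rmor f) W j E
  have hπ : ∀ k, a ≫ R.map (Sigma.π K k) = Sigma.π RK k := fun k => Sigma.hom_ext _ _ fun i => by
    rw [Sigma.ι_desc_assoc, ← R.map_comp]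
    by_cases hi : i = k
    · subst hi; rw [Sigma.ι_π_eq_id, Sigma.ι_π_eq_id, R.map_id]
    · rw [Sigma.ι_π_of_ne _ hi, Sigma.ι_π_of_ne _ hi, R.map_zero]
  refine ⟨fun φ φ' h => ?_, fun ψ => ?_⟩
  · obtain ⟨c, rfl⟩ := genFin_of_dim RK dS hS W j φ
    obtain ⟨c', rfl⟩ := genFin_of_dim RK dS hS W j φ'
    refine congrArg _ (DFinsupp.ext fun k => ?_)
    rw [← homSum_π RK gW c k, ← homSum_π RK gW c' k, ← hπ k, ← Category.assoc, ← Category.assoc]
    exact congrArg (· ≫ R.map (Sigma.π K k)) h
  · obtain ⟨c, hc⟩ := genFin_of_dim K dX hX (f ⁻¹ᵁ W) j (e _ ψ)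
    have he : ∀ (E : DCoh.D X) (x y : gW ⟶ R.obj E), e E (x + y) = e E x + e E y :=
      fun E x y => add_of_natural R e (fun g φ => SiteDer.pushHomEquiv_comp (rmor f) W j g φ) E x y
    have key : ∀ c, ∃ φ, e _ (φ ≫ a) = PerfAux.homSumToHomCoprod gT K c := by
      intro c
      induction c using DirectSum.induction_on with
      | zero =>
        exact ⟨0, ((congrArg (e _) zero_comp).trans (SiteDer.pushHomEquiv_zero (rmor f) W j _)).trans
          (map_zero (PerfAux.homSumToHomCoprod gT K)).symm⟩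
      | of k x =>
        refine ⟨(e _).symm x ≫ Sigma.ι RK k, ?_⟩
        rw [Category.assoc, Sigma.ι_desc, homSum_of]
        exact (SiteDer.pushHomEquiv_comp (rmor f) W j _ _).trans
          (congrArg (· ≫ Sigma.ι K k) ((e _).apply_symm_apply x))
      | add x y hx hy =>
        obtain ⟨φ, hφ⟩ := hx
        obtain ⟨φ', hφ'⟩ := hy
        exact ⟨φ + φ', by rw [Preadditive.add_comp, he, hφ, hφ', map_add]⟩
    obtain ⟨φ, hφ⟩ := key c
    exact ⟨φ, (e _).injective (hφ.trans hc)⟩

end GrothLib.ProjDim22
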