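import Groth.Agent.Lib.OX.ProjQCohSigma
import Groth.Agent.Lib.ProjDim22.RpushCoprod

/-! # The projection formula on Noetherian schemes of finite dimension, arbitrary cohomology -/

set_option autoImplicit false
set_option maxHeartbeats 600000
universe u

open CategoryTheory CategoryTheory.Limits CategoryTheory.Pretriangulated AlgebraicGeometry HomologicalComplex
open DerivedCategory (Qh)

attribute [local instance] HasDerivedCategory.standard

namespace GrothLib.ProjDim22

open GrothLib.OX

variable {X Y : Scheme.{u}} (f : X ⟶ Y) (V : Y.Opens) (A : CochainComplex X.Modules ℤ)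
variable [QuasiCompact f] [QuasiSeparated f] [IsNoetherian X] [IsNoetherian Y] (dX dY : ℕ)
  (hX : topologicalKrullDim X ≤ dX) (hY : topologicalKrullDim Y ≤ dY)

omit [QuasiCompact f] [QuasiSeparated f] in
theorem isNoetherian_opens {Z : Scheme.{u}} [IsNoetherian Z] (U : Z.Opens) : IsNoetherian (U : Scheme.{u}) := by
  haveI : TopologicalSpace.NoetherianSpace Z := inferInstance
  haveI : CompactSpace (U : Scheme.{u}) := isCompact_iff_compactSpace.mp (TopologicalSpace.NoetherianSpace.isCompact (U : Set Z))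
  exact { }

include hX hY in
theorem isIso_projTau_sigma {ι : Type u} (P : ι → CochainComplex Y.Modules ℤ)
    (h : ∀ i, IsIso ((projTau f V A).app (P i))) :
    IsIso ((projTau f V A).app (∐ P)) := by
  have := preserves_srcF f V A ι
  have := preserves_tgtF f V A ι
  haveI : AlgebraicGeometry.IsNoetherian (V : Scheme.{u}) := isNoetherian_opens V
  haveI : AlgebraicGeometry.IsNoetherian ((f ⁻¹ᵁ V : X.Opens) : Scheme.{u}) := isNoetherian_opens _
  have hG : IsIso (Sigma.desc fun i => (tgtF f V A ⋙ RR (f ∣_ V)).map (Sigma.ι P i)) :=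
    isIso_sigmaDesc_comp (tgtF f V A) (RR (f ∣_ V)) P
      (isIso_Rres_coprod_of_dim (f ∣_ V) (fun i => (tgtF f V A).obj (P i)) dX dY
        ((f ⁻¹ᵁ V).ι.isOpenEmbedding.isInducing.topologicalKrullDim_le.trans hX)
        (V.ι.isOpenEmbedding.isInducing.topologicalKrullDim_le.trans hY))
  exact isIso_app_sigma (projTau f V A) P hG h

include hX hY in
theorem pgood_sigma {ι : Type u}
    (R : ι → CochainComplex (V : Scheme.{u}).Modules ℤ) (hR : ∀ i, DCoh.IsKFlat (R i))
    (h : ∀ i, PGood f V A (R i)) :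
    PGood f V A (∐ R) := by
  have := preserves_mapCx (CxOX.extZeroAdj V.ι) ι
  have h1 : IsIso ((projTau f V A).app (∐ fun i => (jzF V).obj (R i))) :=
    isIso_projTau_sigma f V A dX dY hX hY (fun i => (jzF V).obj (R i))
      fun i => (isIso_projTau_app_iff f V A _).2 (h i)
  have hPK : DCoh.IsKFlat (∐ fun i => (jzF V).obj (R i)) :=
    isKFlat_sigma_small (fun i => (jzF V).obj (R i)) fun i => isKFlat_extZero _ (hR i)
  let e : (∐ fun i => (jzF V).obj (R i)) ≅ (jzF V).obj (∐ R) := (PreservesCoproduct.iso (jzF V) R).symm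
  exact (isIso_resD_projD_iff f V e.hom hPK (isKFlat_extZero _ (isKFlat_sigma_small R hR))
    (inferInstanceAs (QuasiIso ((resCx V.ι).mapIso e).hom)) A).1 ((isIso_projTau_app_iff f V A _).1 h1)

include hX hY in
/-- Over an affine open every object with quasi-coherent cohomology is good. -/
theorem pgoodD_of_isQCohD (hV : IsAffineOpen V) (hA : InjK A)
    {N : DCoh.D (V : Scheme.{u})} (hN : DCoh.IsQCohD N) : PGoodD f V A N := by
  let j := hV.isoSpec.hom
  obtain ⟨M, ⟨e⟩⟩ := exists_module_iso j hN
  refine pgoodD_of_iso e (HoCat.prop_derived_of_free (fun M => PGoodD f V A ((AG j).obj M))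
    (fun i h => pgoodD_of_iso ((AG j).mapIso i) h) (fun n => ?_) (fun J Z _ hZ => ?_)
    (fun T hT h₁ h₂ => pgoodD_cone _ ((AG j).map_distinguished T hT) h₁ h₂) M)
  · let O := Coh.structureModule (V : Scheme.{u})
    let o : (Scheme.Modules.restrictFunctor j).obj ((tilde.functor Γ(Y, V)).obj (ModuleCat.of _ Γ(Y, V))) ≅ O :=
      (Scheme.Modules.restrictFunctor j).mapIso tildeSelf ≪≫
        (Scheme.Modules.restrictFunctorIsoPullback j).app _ ≪≫ pullUnitIso j
    let i : (AG j).obj (DerivedCategory.Q.obj ((single _ (ComplexShape.up ℤ) n).obj (ModuleCat.of _ Γ(Y, V)))) ≅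
        DerivedCategory.Q.obj ((single _ (ComplexShape.up ℤ) n).obj O) :=
      (resD j).mapIso ((tilde.functor Γ(Y, V)).mapDerivedCategoryFactors.app _ ≪≫
        DerivedCategory.Q.mapIso ((singleMapHomologicalComplex (tilde.functor Γ(Y, V)) (ComplexShape.up ℤ) n).app _)) ≪≫
      (resDFac j).app _ ≪≫
        DerivedCategory.Q.mapIso (((singleMapHomologicalComplex (Scheme.Modules.restrictFunctor j) (ComplexShape.up ℤ) n).app _) ≪≫
          (single _ (ComplexShape.up ℤ) n).mapIso o)
    exact pgoodD_of_iso i.symm (pgoodD_of_pgood (isKFlat_single O (flat_structureModule (V : Scheme.{u})) n) (pgood_free hA n))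
  · choose R hR eR using fun x => exists_kflat_rep ((AG j).obj (Z x))
    let i : DerivedCategory.Q.obj (∐ R) ≅ (AG j).obj (∐ Z) :=
      PreservesCoproduct.iso DerivedCategory.Q R ≪≫ Limits.Sigma.mapIso (fun x => (eR x).some) ≪≫
        (PreservesCoproduct.iso (AG j) Z).symm
    exact pgoodD_of_iso i (pgoodD_of_pgood (isKFlat_sigma_small R hR)
      (pgood_sigma f V A dX dY hX hY R hR
        fun x => hZ x _ (hR x) (eR x)))

include hX hY in
/-- **Projection formula for objects with quasi-coherent cohomology, on representatives.** -/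
theorem isIso_projD_of_isQCohD (hA : InjK A)
    (P : CochainComplex Y.Modules ℤ) (hP : DCoh.IsKFlat P) (hq : DCoh.IsQCohD (DerivedCategory.Q.obj P)) :
    IsIso (projD f P A) := by
  obtain ⟨C, g, c, hT⟩ := distinguished_cocone_triangle (projD f P A)
  suffices IsZero C from (Triangle.isZero₃_iff_isIso₁ _ hT).1 this
  refine isZero_of_support_empty fun q => Set.eq_empty_iff_forall_notMem.2 fun y hy => ?_
  obtain ⟨V, hV, hyV, -⟩ := exists_isAffineOpen_mem_and_subset (x := y) (U := ⊤) trivial
  let R := (resCx V.ι).obj P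
  have hR : DCoh.IsKFlat R := isKFlat_resCx V.ι hP
  have hRq : DCoh.IsQCohD (DerivedCategory.Q.obj R) := fun i =>
    isQCoh_of_iso ((DerivedCategory.homologyFunctor _ i).mapIso ((resDFac V.ι).app P)) (isQCohD_resD V.ι hq i)
  have h1 : PGood f V A R := pgoodD_of_isQCohD f V A dX dY hX hY hV hA hRq R hR ⟨Iso.refl _⟩
  let ε : (jzF V).obj R ⟶ P :=
    { f := fun n => epsZ V.ι (P.X n)
      comm' := fun n k _ => ((CxOX.extZeroAdj V.ι).counit.naturality (P.d n k)).symm }
  have hε : IsIso ((resCx V.ι).map ε) :=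
    have : ∀ n, IsIso (((resCx V.ι).map ε).f n) := fun n => isIso_restrict_epsZ V.ι (P.X n)
    HomologicalComplex.Hom.isIso_of_components _
  have h2 : IsIso ((resD V.ι).map (projD f P A)) :=
    (isIso_resD_projD_iff f V ε (isKFlat_extZero _ hR) hP inferInstance A).1 h1
  have h3 : IsZero ((resD V.ι).obj C) :=
    (Triangle.isZero₃_iff_isIso₁ _ ((resD V.ι).map_distinguished _ hT)).2 h2
  exact (isZero_resD_iff_support V.ι C).1 h3 q hy ⟨⟨y, hyV⟩, rfl⟩

end GrothLib.ProjDim22
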